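import Mathlib
import Groth.Agent.Lib.Helper26.GabLocClosed
import Groth.Agent.Lib.Helper8.SubLat1

/-!
# Helper23 — GrothInj.UpperCont: the lattice of subobjects of an object of a Grothendieck abelian
category is upper continuous (meets distribute over directed joins)
-/

set_option autoImplicit false
set_option linter.style.haveILetI false
set_option linter.unusedSectionVars false
universe w v u

namespace Groth.Agent.Lib.Helper23.GrothInj

open CategoryTheory CategoryTheory.Limits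

variable {C : Type u} [Category.{v} C] [Abelian C] [IsGrothendieckAbelian.{w} C]

/-- upper continuity: `B ⊓ sSup 𝒟 ≤ ⨆ D ∈ 𝒟, B ⊓ D` for a nonempty directed set `𝒟`. -/
theorem inf_sSup_le_of_directedOn {X : C} (B : Subobject X) (𝒟 : Set (Subobject X))
    (h𝒟 : DirectedOn (· ≤ ·) 𝒟) (hne : 𝒟.Nonempty) :
    B ⊓ sSup 𝒟 ≤ ⨆ D ∈ 𝒟, B ⊓ D := by
  let K : Type w := Shrink.{w} ↥𝒟
  let val : K → Subobject X := fun k => ((equivShrink ↥𝒟).symm k).1
  letI : Preorder K := Preorder.lift val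
  haveI : Nonempty K := ⟨equivShrink ↥𝒟 ⟨hne.choose, hne.choose_spec⟩⟩
  haveI : IsDirected K (· ≤ ·) := by
    constructor
    intro a b
    obtain ⟨c, hc, hac, hbc⟩ := h𝒟 _ ((equivShrink ↥𝒟).symm a).2 _ ((equivShrink ↥𝒟).symm b).2
    refine ⟨equivShrink ↥𝒟 ⟨c, hc⟩, ?_, ?_⟩
    · change val a ≤ val (equivShrink ↥𝒟 ⟨c, hc⟩)
      dsimp only [val]
      rw [Equiv.symm_apply_apply]
      exact hac
    · change val b ≤ val (equivShrink ↥𝒟 ⟨c, hc⟩)
      dsimp only [val]
      rw [Equiv.symm_apply_apply]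
      exact hbc
  have hmono : Monotone val := fun a b hab => hab
  have h := Groth.Agent.Lib.Helper26.GabLocClosed.inf_iSup_le hmono.functor B
  have e1 : sSup 𝒟 ≤ ⨆ k, hmono.functor.obj k := by
    apply sSup_le
    intro D hD
    refine le_trans ?_ (le_iSup (fun k => hmono.functor.obj k) (equivShrink ↥𝒟 ⟨D, hD⟩))
    change D ≤ val (equivShrink ↥𝒟 ⟨D, hD⟩)
    dsimp only [val]
    rw [Equiv.symm_apply_apply]
  have e2 : (⨆ k, B ⊓ hmono.functor.obj k) ≤ ⨆ D ∈ 𝒟, B ⊓ D := by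
    apply iSup_le
    intro k
    exact le_iSup₂ (f := fun D (_ : D ∈ 𝒟) => B ⊓ D) (val k) ((equivShrink ↥𝒟).symm k).2
  exact le_trans (inf_le_inf_left B e1) (le_trans h e2)

/-- a subobject disjoint from all members of a directed set is disjoint from its supremum. -/
theorem inf_sSup_eq_bot_of_directedOn {X : C} (B : Subobject X) (𝒟 : Set (Subobject X))
    (h𝒟 : DirectedOn (· ≤ ·) 𝒟) (h : ∀ D ∈ 𝒟, B ⊓ D = ⊥) : B ⊓ sSup 𝒟 = ⊥ := by
  rcases 𝒟.eq_empty_or_nonempty with rfl | hne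
  · rw [sSup_empty, inf_bot_eq]
  · apply le_bot_iff.1
    refine le_trans (inf_sSup_le_of_directedOn B 𝒟 h𝒟 hne) ?_
    apply iSup₂_le
    intro D hD
    rw [h D hD]

end Groth.Agent.Lib.Helper23.GrothInj
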