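import Mathlib
import Groth.Agent.Lib.Helper23.GrothInj.UpperCont

/-!
# Helper23 — GrothInj.Essential: essential extensions inside the lattice of subobjects; maximal essential
extensions and maximal disjoint subobjects (Zorn, using upper continuity)
-/

set_option autoImplicit false
set_option linter.style.haveILetI false
set_option linter.unusedSectionVars false
universe w v u

namespace Groth.Agent.Lib.Helper23.GrothInj

open CategoryTheory CategoryTheory.Limits

variable {C : Type u} [Category.{v} C] [Abelian C] [IsGrothendieckAbelian.{w} C] {X : C}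

/-- `A` is essential in `E`: `A ≤ E` and every subobject of `E` disjoint from `A` is zero. -/
def IsEss (A E : Subobject X) : Prop :=
  A ≤ E ∧ ∀ W : Subobject X, W ≤ E → W ⊓ A = ⊥ → W = ⊥

lemma IsEss.refl (A : Subobject X) : IsEss A A :=
  ⟨le_rfl, fun W hW h => by rwa [inf_eq_left.2 hW] at h⟩

lemma IsEss.trans {A E G : Subobject X} (h1 : IsEss A E) (h2 : IsEss E G) : IsEss A G := by
  refine ⟨h1.1.trans h2.1, fun W hW h => ?_⟩
  apply h2.2 W hW
  apply h1.2 (W ⊓ E) inf_le_right
  rw [inf_assoc, inf_eq_right.2 h1.1]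
  exact h

lemma IsEss.ne_bot {A E : Subobject X} (h : IsEss A E) {W : Subobject X} (hW : W ≤ E)
    (hW0 : W ≠ ⊥) : W ⊓ A ≠ ⊥ := fun h0 => hW0 (h.2 W hW h0)

/-- the supremum of a nonempty chain of essential extensions of `A` is an essential extension. -/
lemma isEss_sSup_of_chain (A : Subobject X) (c : Set (Subobject X)) (hc : IsChain (· ≤ ·) c)
    (hne : c.Nonempty) (h : ∀ E ∈ c, IsEss A E) : IsEss A (sSup c) := by
  obtain ⟨E₀, hE₀⟩ := hne
  refine ⟨(h E₀ hE₀).1.trans (le_sSup hE₀), fun W hW hWA => ?_⟩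
  have h1 : W = W ⊓ sSup c := (inf_eq_left.2 hW).symm
  rw [h1]
  apply inf_sSup_eq_bot_of_directedOn W c hc.directedOn
  intro D hD
  apply (h D hD).2 (W ⊓ D) inf_le_right
  rw [inf_right_comm]
  rw [hWA, bot_inf_eq]

/-- every subobject has a maximal essential extension. -/
theorem exists_maximal_ess (A : Subobject X) :
    ∃ E : Subobject X, IsEss A E ∧ ∀ E' : Subobject X, IsEss A E' → E ≤ E' → E' = E := by
  have hz := zorn_le₀ {E : Subobject X | IsEss A E} (fun c hcS hc => by
    rcases c.eq_empty_or_nonempty with rfl | hne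
    · exact ⟨A, IsEss.refl A, fun _ h => absurd h (Set.notMem_empty _)⟩
    · exact ⟨sSup c, isEss_sSup_of_chain A c hc hne (fun E hE => hcS hE), fun E hE => le_sSup hE⟩)
  obtain ⟨E, hE⟩ := hz
  exact ⟨E, hE.prop, fun E' hE' hle => le_antisymm (hE.le_of_ge hE' hle) hle⟩

/-- every subobject has a maximal subobject disjoint from it. -/
theorem exists_maximal_disjoint (E : Subobject X) :
    ∃ K : Subobject X, K ⊓ E = ⊥ ∧ ∀ K' : Subobject X, K' ⊓ E = ⊥ → K ≤ K' → K' = K := by
  have hz := zorn_le₀ {K : Subobject X | K ⊓ E = ⊥} (fun c hcS hc => by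
    refine ⟨sSup c, ?_, fun K hK => le_sSup hK⟩
    change sSup c ⊓ E = ⊥
    rw [inf_comm]
    apply inf_sSup_eq_bot_of_directedOn E c hc.directedOn
    intro D hD
    rw [inf_comm]
    exact hcS hD)
  obtain ⟨K, hK⟩ := hz
  exact ⟨K, hK.prop, fun K' hK' hle => le_antisymm (hK.le_of_ge hK' hle) hle⟩

end Groth.Agent.Lib.Helper23.GrothInj
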