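import Mathlib
import Groth.Agent.Lib.Helper23.GrothInj.Essential
import Groth.Agent.Lib.Helper23.AR.SubCalc

/-!
# Helper23 — GrothInj.Summand: a subobject of an injective object with no proper essential extension
inside it is a direct summand (hence injective)
-/

set_option autoImplicit false
set_option linter.style.haveILetI false
set_option linter.unusedSectionVars false
universe w v u

namespace Groth.Agent.Lib.Helper23.GrothInj

open CategoryTheory CategoryTheory.Limits
open Groth.Agent.Lib.Helper8.SubLat1 Groth.Agent.Lib.Helper23.AR.SubCalc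

section Abelian

variable {C : Type u} [Category.{v} C] [Abelian C] {X : C}

lemma eq_bot_of_arrow_eq_zero (S : Subobject X) (h : S.arrow = 0) : S = ⊥ := by
  rw [← Subobject.mk_arrow S]
  exact Subobject.mk_eq_bot_iff_zero.2 h

lemma arrow_eq_zero_of_eq_bot (S : Subobject X) (h : S = ⊥) : S.arrow = 0 := by
  subst h
  exact Subobject.bot_arrow

lemma mk_factors_iff' {Y Z : C} (f : Y ⟶ X) [Mono f] (g : Z ⟶ X) :
    (Subobject.mk f).Factors g ↔ ∃ h : Z ⟶ Y, h ≫ f = g :=
  (Subobject.mk_factors_iff f g).trans Iff.rfl

lemma inf_eq_bot_of_factors (P Q : Subobject X)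
    (h : ∀ {Z : C} (z : Z ⟶ X), P.Factors z → Q.Factors z → z = 0) : P ⊓ Q = ⊥ :=
  eq_bot_of_arrow_eq_zero _ (h _ (Subobject.inf_arrow_factors_left _ _)
    (Subobject.inf_arrow_factors_right _ _))

lemma eq_zero_of_inf_eq_bot {P Q : Subobject X} (h : P ⊓ Q = ⊥) {Z : C} (z : Z ⟶ X)
    (hP : P.Factors z) (hQ : Q.Factors z) : z = 0 := by
  have : (P ⊓ Q).Factors z := (Subobject.inf_factors z).2 ⟨hP, hQ⟩
  rw [h] at this
  exact (Subobject.bot_factors_iff_zero z).1 this

/-- Key lemma: `E` with no proper essential extension inside the injective `I`, `K` maximal disjoint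
from `E`: then `E` is a retract of `I` by a retraction killing `K`. -/
theorem exists_retraction_aux {I : C} [Injective I] (E K : Subobject I)
    (hEmax : ∀ E' : Subobject I, E ≤ E' → (∀ W : Subobject I, W ≤ E' → W ⊓ E = ⊥ → W = ⊥) → E' = E)
    (hK : K ⊓ E = ⊥)
    (hKmax : ∀ K' : Subobject I, K' ⊓ E = ⊥ → K ≤ K' → K' = K) :
    ∃ r : I ⟶ (E : C), E.arrow ≫ r = 𝟙 _ ∧ K.arrow ≫ r = 0 := by
  let π : I ⟶ cokernel K.arrow := cokernel.π K.arrow
  let ι : (E : C) ⟶ cokernel K.arrow := E.arrow ≫ π
  haveI hι : Mono ι := by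
    apply Preadditive.mono_of_cancel_zero
    intro Z z hz
    have h1 : K.Factors (z ≫ E.arrow) := by
      rw [factors_iff_comp_cokernel, Category.assoc]
      exact hz
    have h2 : E.Factors (z ≫ E.arrow) := Subobject.factors_comp_arrow z
    have h3 := eq_zero_of_inf_eq_bot hK _ h1 h2
    rw [← cancel_mono E.arrow, h3, zero_comp]
  let g : cokernel K.arrow ⟶ I := Injective.factorThru E.arrow ι
  have hg : ι ≫ g = E.arrow := Injective.comp_factorThru E.arrow ι
  -- essentiality of `ι` in the quotient
  have hessQ : ∀ W : Subobject (cokernel K.arrow), W ⊓ Subobject.mk ι = ⊥ → W = ⊥ := by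
    intro W hW
    have h1 : K ≤ pb π W := by
      apply Subobject.le_of_factors
      rw [pb_factors_iff]
      have : K.arrow ≫ π = 0 := cokernel.condition _
      rw [this]
      exact Subobject.factors_zero
    have h2 : pb π W ⊓ E = ⊥ := by
      apply inf_eq_bot_of_factors
      intro Z z hz1 hz2
      rw [pb_factors_iff] at hz1
      have hz3 : (Subobject.mk ι).Factors (z ≫ π) := by
        rw [mk_factors_iff']
        refine ⟨E.factorThru z hz2, ?_⟩
        change E.factorThru z hz2 ≫ E.arrow ≫ π = z ≫ π
        rw [← Category.assoc, Subobject.factorThru_arrow]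
      have hz4 := eq_zero_of_inf_eq_bot hW _ hz1 hz3
      have hz5 : E.factorThru z hz2 ≫ ι = 0 := by
        change E.factorThru z hz2 ≫ E.arrow ≫ π = 0
        rw [← Category.assoc, Subobject.factorThru_arrow]
        exact hz4
      have hz6 : E.factorThru z hz2 = 0 := by
        rw [← cancel_mono ι, hz5, zero_comp]
      rw [← Subobject.factorThru_arrow E z hz2, hz6, zero_comp]
    have h3 : pb π W = K := hKmax _ h2 h1
    have h4 : W = im π (pb π W) := (im_pb_of_epi π W).symm
    rw [h4, h3, im_eq_bot_iff]
    exact cokernel.condition _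
  haveI hgm : Mono g := by
    have h1 : kernelSubobject g ⊓ Subobject.mk ι = ⊥ := by
      apply inf_eq_bot_of_factors
      intro Z z hz1 hz2
      rw [kernelSubobject_factors_iff] at hz1
      rw [mk_factors_iff'] at hz2
      obtain ⟨z', hz'⟩ := hz2
      have : z' ≫ E.arrow = 0 := by
        rw [← hg, ← Category.assoc, hz', hz1]
      have hz0 : z' = 0 := by
        rw [← cancel_mono E.arrow, this, zero_comp]
      rw [← hz', hz0, zero_comp]
    have h2 := hessQ _ h1
    apply Preadditive.mono_of_cancel_zero
    intro Z z hz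
    have h3 : (kernelSubobject g).Factors z := (kernelSubobject_factors_iff g z).2 hz
    rw [h2] at h3
    exact (Subobject.bot_factors_iff_zero z).1 h3
  -- `G = mk g` is an essential extension of `E`
  have hEG : E ≤ Subobject.mk g := by
    apply Subobject.le_of_factors
    rw [mk_factors_iff']
    exact ⟨ι, hg⟩
  have hGE : Subobject.mk g = E := by
    apply hEmax _ hEG
    intro W hWG hWE
    have h1 : pb g W ⊓ Subobject.mk ι = ⊥ := by
      apply inf_eq_bot_of_factors
      intro Z z hz1 hz2
      rw [pb_factors_iff] at hz1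
      rw [mk_factors_iff'] at hz2
      obtain ⟨z', hz'⟩ := hz2
      have hz3 : E.Factors (z ≫ g) := by
        rw [← hz', Category.assoc, hg]
        exact Subobject.factors_comp_arrow z'
      have hz4 := eq_zero_of_inf_eq_bot hWE _ hz1 hz3
      rw [← cancel_mono g, hz4, zero_comp]
    have h2 := hessQ _ h1
    have h3 : (Subobject.mk g).Factors W.arrow := Subobject.factors_of_le _ hWG (Subobject.factors_self W)
    rw [mk_factors_iff'] at h3
    obtain ⟨w, hw⟩ := h3
    have h4 : (pb g W).Factors w := by
      rw [pb_factors_iff, hw]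
      exact Subobject.factors_self W
    rw [h2] at h4
    have h5 := (Subobject.bot_factors_iff_zero w).1 h4
    apply eq_bot_of_arrow_eq_zero
    rw [← hw, h5, zero_comp]
  have hgE : E.Factors g := by
    rw [← hGE]
    exact Subobject.mk_factors_self g
  let g' : cokernel K.arrow ⟶ (E : C) := E.factorThru g hgE
  have hg' : g' ≫ E.arrow = g := Subobject.factorThru_arrow E g hgE
  refine ⟨π ≫ g', ?_, ?_⟩
  · rw [← cancel_mono E.arrow, Category.assoc, Category.assoc, hg', Category.id_comp]
    rw [← Category.assoc]
    exact hg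
  · rw [← Category.assoc]
    have : K.arrow ≫ π = 0 := cokernel.condition _
    rw [this, zero_comp]

end Abelian

section Grothendieck

variable {C : Type u} [Category.{v} C] [Abelian C] [IsGrothendieckAbelian.{w} C]

/-- a subobject of an injective object without proper essential extension inside it is a retract. -/
theorem exists_retraction_of_maximal {I : C} [Injective I] (E : Subobject I)
    (hEmax : ∀ E' : Subobject I, IsEss E E' → E' = E) :
    ∃ r : I ⟶ (E : C), E.arrow ≫ r = 𝟙 _ := by
  obtain ⟨K, hK, hKmax⟩ := exists_maximal_disjoint.{w} E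
  obtain ⟨r, hr, -⟩ := exists_retraction_aux E K
    (fun E' h1 h2 => hEmax E' ⟨h1, h2⟩) hK hKmax
  exact ⟨r, hr⟩

/-- every subobject `A` of an injective object `I` is essential in an injective retract of `I`. -/
theorem exists_ess_retract {I : C} [Injective I] (A : Subobject I) :
    ∃ (E : Subobject I), IsEss A E ∧ (∃ r : I ⟶ (E : C), E.arrow ≫ r = 𝟙 _) ∧
      Injective (E : C) := by
  obtain ⟨E, hE, hEmax⟩ := exists_maximal_ess.{w} A
  have h := exists_retraction_of_maximal.{w} E (fun E' hE' => hEmax E' (hE.trans hE') hE'.1)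
  obtain ⟨r, hr⟩ := h
  refine ⟨E, hE, ⟨r, hr⟩, ?_⟩
  exact Retract.injective (Y := I) ⟨E.arrow, r, hr⟩

end Grothendieck

end Groth.Agent.Lib.Helper23.GrothInj
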