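import Mathlib
import Groth.Agent.Lib.Helper23.GrothInj.Summand

/-!
# Helper23 — GrothInj.Uniform: an indecomposable injective object of a Grothendieck abelian category
is uniform (any two nonzero subobjects meet)
-/

set_option autoImplicit false
set_option linter.style.haveILetI false
set_option linter.unusedSectionVars false
universe w v u

namespace Groth.Agent.Lib.Helper23.GrothInj

open CategoryTheory CategoryTheory.Limits
open Groth.Agent.Lib.Helper8.SubLat1 Groth.Agent.Lib.Helper23.AR.SubCalc

section Abelian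

variable {C : Type u} [Category.{v} C] [Abelian C]

/-- a retract gives a biproduct decomposition. -/
lemma nonempty_iso_biprod_of_retraction {X Y : C} (s : Y ⟶ X) (r : X ⟶ Y) (h : s ≫ r = 𝟙 Y) :
    Nonempty (X ≅ kernel r ⊞ Y) := by
  haveI : IsSplitEpi r := IsSplitEpi.mk' ⟨s, h⟩
  exact ⟨biprod.uniqueUpToIso _ _ (isBilimitBinaryBiconeOfIsSplitEpiOfKernel (kernelIsKernel r))⟩

/-- in an indecomposable object, a retract subobject is `⊥` or `⊤`. -/
lemma eq_bot_or_eq_top_of_retraction {X : C}
    (hind : ∀ (A B : C), Nonempty (X ≅ A ⊞ B) → IsZero A ∨ IsZero B)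
    (E : Subobject X) (r : X ⟶ (E : C)) (hr : E.arrow ≫ r = 𝟙 _) : E = ⊥ ∨ E = ⊤ := by
  rcases hind _ _ (nonempty_iso_biprod_of_retraction E.arrow r hr) with h | h
  · right
    haveI : Mono r := Preadditive.mono_of_kernel_zero (h.eq_of_src _ _)
    haveI : IsSplitEpi r := IsSplitEpi.mk' ⟨E.arrow, hr⟩
    haveI : IsIso r := isIso_of_mono_of_isSplitEpi r
    haveI : IsIso (E.arrow ≫ r) := by rw [hr]; infer_instance
    haveI : IsIso E.arrow := IsIso.of_isIso_comp_right E.arrow r
    exact Subobject.eq_top_of_isIso_arrow E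
  · left
    exact eq_bot_of_arrow_eq_zero E (h.eq_of_src _ _)

end Abelian

section Grothendieck

variable {C : Type u} [Category.{v} C] [Abelian C] [IsGrothendieckAbelian.{w} C]

/-- every nonzero subobject of an indecomposable injective is essential. -/
theorem isEss_top_of_indecomposable {E₀ : C} [Injective E₀]
    (hind : ∀ (A B : C), Nonempty (E₀ ≅ A ⊞ B) → IsZero A ∨ IsZero B)
    (A : Subobject E₀) (hA : A ≠ ⊥) : IsEss A ⊤ := by
  obtain ⟨E, hess, ⟨r, hr⟩, -⟩ := exists_ess_retract.{w} A
  rcases eq_bot_or_eq_top_of_retraction hind E r hr with h | h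
  · exfalso
    apply hA
    have := hess.1
    rw [h] at this
    exact le_bot_iff.1 this
  · rwa [h] at hess

/-- an indecomposable injective is uniform. -/
theorem inf_ne_bot_of_indecomposable {E₀ : C} [Injective E₀]
    (hind : ∀ (A B : C), Nonempty (E₀ ≅ A ⊞ B) → IsZero A ∨ IsZero B)
    (A B : Subobject E₀) (hA : A ≠ ⊥) (hB : B ≠ ⊥) : A ⊓ B ≠ ⊥ := by
  have h := isEss_top_of_indecomposable.{w} hind B hB
  exact h.ne_bot le_top hA

end Grothendieck

end Groth.Agent.Lib.Helper23.GrothInj
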