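import Mathlib
import Groth.Agent.Lib.Helper23.GrothInj.Uniform

/-!
# Helper23 — GrothInj.UniformSub: uniform subobjects; a nonzero Noetherian subobject contains a uniform
subobject; essential extensions of uniform subobjects are uniform and indecomposable
-/

set_option autoImplicit false
set_option linter.style.haveILetI false
set_option linter.unusedSectionVars false
universe w v u

namespace Groth.Agent.Lib.Helper23.GrothInj

open CategoryTheory CategoryTheory.Limits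
open Groth.Agent.Lib.Helper8.SubLat1 Groth.Agent.Lib.Helper23.AR.SubCalc

variable {C : Type u} [Category.{v} C] [Abelian C] [IsGrothendieckAbelian.{w} C] {X : C}

/-- a uniform subobject: nonzero, and any two nonzero subobjects of it meet. -/
def IsUnif (A : Subobject X) : Prop :=
  A ≠ ⊥ ∧ ∀ B D : Subobject X, B ≤ A → D ≤ A → B ≠ ⊥ → D ≠ ⊥ → B ⊓ D ≠ ⊥

lemma IsUnif.of_isEss {A E : Subobject X} (hA : IsUnif.{w} A) (h : IsEss.{w} A E) :
    IsUnif.{w} E := by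
  refine ⟨fun h0 => hA.1 ?_, fun B D hB hD hB0 hD0 h0 => ?_⟩
  · have := h.1
    rw [h0] at this
    exact le_bot_iff.1 this
  · have h1 := h.ne_bot hB hB0
    have h2 := h.ne_bot hD hD0
    apply hA.2 (B ⊓ A) (D ⊓ A) inf_le_right inf_le_right h1 h2
    apply le_bot_iff.1
    rw [← h0]
    exact inf_le_inf inf_le_left inf_le_left

/-- a uniform subobject is indecomposable (biproduct form). -/
lemma IsUnif.indecomposable {E : Subobject X} (hE : IsUnif.{w} E) (P Q : C)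
    (he : Nonempty ((E : C) ≅ P ⊞ Q)) : IsZero P ∨ IsZero Q := by
  obtain ⟨e⟩ := he
  let p : P ⟶ X := biprod.inl ≫ e.inv ≫ E.arrow
  let q : Q ⟶ X := biprod.inr ≫ e.inv ≫ E.arrow
  haveI : Mono p := by dsimp only [p]; infer_instance
  haveI : Mono q := by dsimp only [q]; infer_instance
  have hP : Subobject.mk p ≤ E := Subobject.mk_le_of_comm (biprod.inl ≫ e.inv) (by simp [p])
  have hQ : Subobject.mk q ≤ E := Subobject.mk_le_of_comm (biprod.inr ≫ e.inv) (by simp [q])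
  have hPQ : Subobject.mk p ⊓ Subobject.mk q = ⊥ := by
    apply inf_eq_bot_of_factors
    intro Z z hz1 hz2
    rw [mk_factors_iff'] at hz1 hz2
    obtain ⟨a, ha⟩ := hz1
    obtain ⟨b, hb⟩ := hz2
    have h1 : a ≫ biprod.inl = b ≫ (biprod.inr : Q ⟶ P ⊞ Q) := by
      rw [← cancel_mono (e.inv ≫ E.arrow)]
      simp only [Category.assoc]
      exact ha.trans hb.symm
    have h2 : a = 0 := by
      have := congrArg (fun k => k ≫ (biprod.fst : P ⊞ Q ⟶ P)) h1
      simpa using this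
    rw [← ha, h2, zero_comp]
  by_contra hcon
  rw [not_or] at hcon
  have hP0 : Subobject.mk p ≠ ⊥ := by
    intro h
    apply hcon.1
    rw [Subobject.mk_eq_bot_iff_zero] at h
    have h1 : (biprod.inl : P ⟶ P ⊞ Q) = 0 := by
      rw [← cancel_mono (e.inv ≫ E.arrow), zero_comp]
      exact h
    rw [IsZero.iff_id_eq_zero, ← biprod.inl_fst (X := P) (Y := Q), h1, zero_comp]
  have hQ0 : Subobject.mk q ≠ ⊥ := by
    intro h
    apply hcon.2
    rw [Subobject.mk_eq_bot_iff_zero] at h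
    have h1 : (biprod.inr : Q ⟶ P ⊞ Q) = 0 := by
      rw [← cancel_mono (e.inv ≫ E.arrow), zero_comp]
      exact h
    rw [IsZero.iff_id_eq_zero, ← biprod.inr_snd (X := P) (Y := Q), h1, zero_comp]
  exact hE.2 _ _ hP hQ hP0 hQ0 hPQ

/-- a nonzero Noetherian subobject contains a uniform subobject. -/
theorem exists_isUnif_le_of_noetherian (N : Subobject X) (hN : N ≠ ⊥)
    [IsNoetherianObject (N : C)] : ∃ M : Subobject X, M ≤ N ∧ IsUnif.{w} M := by
  haveI : WellFoundedGT (Set.Iic N) :=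
    (Subobject.subobjectOrderIso N).symm.strictMono.wellFoundedGT
  let 𝒦 : Set (Set.Iic N) :=
    {K | ∃ B : Subobject X, B ≤ N ∧ B ≠ ⊥ ∧ K.1 ⊓ B = ⊥}
  have hne : 𝒦.Nonempty := ⟨⟨⊥, Set.mem_Iic.2 bot_le⟩, N, le_rfl, hN, bot_inf_eq _⟩
  obtain ⟨K, ⟨B, hBN, hB0, hKB⟩, hKmax⟩ := wellFounded_gt.has_min 𝒦 hne
  refine ⟨B, hBN, hB0, fun A₁ A₂ h1 h2 h10 h20 h0 => ?_⟩
  -- `K ⊔ A₁` is in `𝒦` with witness `A₂`
  have hK' : K.1 ⊔ A₁ ≤ N := sup_le K.2 (h1.trans hBN)
  have hmem : (⟨K.1 ⊔ A₁, hK'⟩ : Set.Iic N) ∈ 𝒦 := by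
    refine ⟨A₂, h2.trans hBN, h20, ?_⟩
    change (K.1 ⊔ A₁) ⊓ A₂ = ⊥
    apply le_bot_iff.1
    have e1 : (K.1 ⊔ A₁) ⊓ A₂ ≤ (A₁ ⊔ K.1) ⊓ B := by
      rw [sup_comm]
      exact inf_le_inf_left _ h2
    have e2 : (A₁ ⊔ K.1) ⊓ B = A₁ ⊔ K.1 ⊓ B := sup_inf_assoc_of_le K.1 h1
    rw [e2, hKB, sup_bot_eq] at e1
    calc (K.1 ⊔ A₁) ⊓ A₂ ≤ A₁ ⊓ A₂ := le_inf e1 inf_le_right
      _ = ⊥ := h0
  have hlt : K < (⟨K.1 ⊔ A₁, hK'⟩ : Set.Iic N) := by
    refine lt_of_le_of_ne (Subtype.mk_le_mk.2 le_sup_left) (fun heq => h10 ?_)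
    have h3 : A₁ ≤ K.1 := by
      have : K.1 = K.1 ⊔ A₁ := congrArg Subtype.val heq
      rw [this]
      exact le_sup_right
    apply le_bot_iff.1
    rw [← hKB]
    exact le_inf h3 h1
  exact hKmax _ hmem hlt

end Groth.Agent.Lib.Helper23.GrothInj
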