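import Mathlib
import Groth.Agent.Lib.Helper23.GrothInj.UniformSub
import Groth.Agent.Lib.Helper2.Kaplansky

/-!
# Helper23 — GrothInj.IndecSub: indecomposable injective subobjects of an injective object over
Noetherian subobjects; independence of unions of chains
-/

set_option autoImplicit false
set_option linter.style.haveILetI false
set_option linter.unusedSectionVars false
universe w v u

namespace Groth.Agent.Lib.Helper23.GrothInj

open CategoryTheory CategoryTheory.Limits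
open Groth.Agent.Lib.Helper8.SubLat1 Groth.Agent.Lib.Helper23.AR.SubCalc

variable {C : Type u} [Category.{v} C] [Abelian C] [IsGrothendieckAbelian.{w} C]

/-- a nonzero injective indecomposable subobject. -/
def Good {I : C} (E : Subobject I) : Prop :=
  E ≠ ⊥ ∧ Injective (E : C) ∧ ∀ P Q : C, Nonempty ((E : C) ≅ P ⊞ Q) → IsZero P ∨ IsZero Q

theorem exists_good_of_isUnif {I : C} [Injective I] (M : Subobject I) (hM : IsUnif.{w} M) :
    ∃ E : Subobject I, Good.{w} E ∧ IsEss.{w} M E := by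
  obtain ⟨E, hess, -, hinj⟩ := exists_ess_retract.{w} M
  have hE := hM.of_isEss hess
  exact ⟨E, ⟨hE.1, hinj, hE.indecomposable⟩, hess⟩

theorem exists_good_of_noetherian {I : C} [Injective I] (N : Subobject I) (hN : N ≠ ⊥)
    [IsNoetherianObject (N : C)] :
    ∃ E : Subobject I, Good.{w} E ∧ ∀ W : Subobject I, N ⊓ W = ⊥ → E ⊓ W = ⊥ := by
  obtain ⟨M, hMN, hM⟩ := exists_isUnif_le_of_noetherian.{w} N hN
  obtain ⟨E, hE, hess⟩ := exists_good_of_isUnif.{w} M hM
  refine ⟨E, hE, fun W hW => ?_⟩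
  by_contra h
  have h1 := hess.ne_bot (W := E ⊓ W) inf_le_left h
  apply h1
  apply le_bot_iff.1
  rw [← hW]
  exact le_inf (inf_le_right.trans hMN) (inf_le_left.trans inf_le_right)

/-- the union of a chain of independent sets of subobjects is independent. -/
theorem sSupIndep_sUnion_of_chain {X : C} (c : Set (Set (Subobject X)))
    (hc : IsChain (· ⊆ ·) c) (h : ∀ s ∈ c, sSupIndep s) : sSupIndep (⋃₀ c) := by
  intro a ha
  obtain ⟨sa, hsa, hasa⟩ := ha
  rw [disjoint_iff]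
  let 𝒟 : Set (Subobject X) := {D | ∃ s ∈ c, a ∈ s ∧ D = sSup (s \ {a})}
  have hdir : DirectedOn (· ≤ ·) 𝒟 := by
    rintro _ ⟨s, hs, has, rfl⟩ _ ⟨t, ht, hat, rfl⟩
    rcases hc.total hs ht with hst | hts
    · exact ⟨_, ⟨t, ht, hat, rfl⟩, sSup_le_sSup (Set.diff_subset_diff_left hst), le_rfl⟩
    · exact ⟨_, ⟨s, hs, has, rfl⟩, le_rfl, sSup_le_sSup (Set.diff_subset_diff_left hts)⟩
  have h0 : a ⊓ sSup 𝒟 = ⊥ := by
    apply inf_sSup_eq_bot_of_directedOn.{w} a 𝒟 hdir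
    rintro _ ⟨s, hs, has, rfl⟩
    exact disjoint_iff.1 (h s hs has)
  apply le_bot_iff.1
  rw [← h0]
  apply inf_le_inf_left
  apply sSup_le
  rintro x ⟨⟨s, hs, hxs⟩, hxa⟩
  rcases hc.total hs hsa with hst | hts
  · have h1 : x ≤ sSup (sa \ {a}) := le_sSup ⟨hst hxs, hxa⟩
    have h2 : sSup (sa \ {a}) ∈ 𝒟 := ⟨sa, hsa, hasa, rfl⟩
    exact le_trans h1 (le_sSup h2)
  · have h1 : x ≤ sSup (s \ {a}) := le_sSup ⟨hxs, hxa⟩
    have h2 : sSup (s \ {a}) ∈ 𝒟 := ⟨s, hs, hts hasa, rfl⟩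
    exact le_trans h1 (le_sSup h2)

/-- Zorn: there is a maximal independent set of good subobjects. -/
theorem exists_maximal_good_indep (I : C) :
    ∃ s : Set (Subobject I), (sSupIndep s ∧ ∀ E ∈ s, Good.{w} E) ∧
      ∀ t : Set (Subobject I), (sSupIndep t ∧ ∀ E ∈ t, Good.{w} E) → s ⊆ t → t = s := by
  have hz := zorn_subset {s : Set (Subobject I) | sSupIndep s ∧ ∀ E ∈ s, Good.{w} E}
    (fun c hcS hc => ⟨⋃₀ c, ⟨sSupIndep_sUnion_of_chain.{w} c hc (fun s hs => (hcS hs).1),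
      fun E ⟨s, hs, hEs⟩ => (hcS hs).2 E hEs⟩, fun s hs => Set.subset_sUnion_of_mem hs⟩)
  obtain ⟨s, hs⟩ := hz
  exact ⟨s, hs.prop, fun t ht hst => (hs.eq_of_subset ht hst).symm⟩

end Groth.Agent.Lib.Helper23.GrothInj
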