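import Mathlib
import Groth.Agent.Lib.Helper23.GrothInj.IndecSub
import Groth.Agent.Lib.Helper23.NoethObj.CoprodFactor

/-!
# Helper23 — GrothInj.Decomp: in a Grothendieck abelian category where Noetherian objects detect zero
morphisms and coproducts of injectives are injective, every injective is a coproduct of indecomposable
injectives (Matlis–Gabriel)
-/

set_option autoImplicit false
set_option linter.style.haveILetI false
set_option linter.unusedSectionVars false
universe w v u

namespace Groth.Agent.Lib.Helper23.GrothInj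

open CategoryTheory CategoryTheory.Limits
open Groth.Agent.Lib.Helper8.SubLat1 Groth.Agent.Lib.Helper23.AR.SubCalc
open Groth.Agent.Lib.Helper23.NoethObj

variable {C : Type u} [Category.{v} C] [Abelian C]

attribute [local instance] Abelian.hasFiniteBiproducts

/-- a finite sum of morphisms factoring through members of a family factors through the join. -/
lemma factors_sum {X Z : C} {J : Type*} (T : Finset J) (E : J → Subobject X) (W : Subobject X)
    (hW : ∀ j ∈ T, E j ≤ W) (φ : J → (Z ⟶ X)) (hφ : ∀ j ∈ T, (E j).Factors (φ j)) :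
    W.Factors (∑ j ∈ T, φ j) := by
  classical
  induction T using Finset.induction_on with
  | empty => rw [Finset.sum_empty]; exact Subobject.factors_zero
  | insert a T ha ih =>
    rw [Finset.sum_insert ha]
    apply Subobject.factors_add
    · exact Subobject.factors_of_le _ (hW a (Finset.mem_insert_self a T))
        (hφ a (Finset.mem_insert_self a T))
    · exact ih (fun j hj => hW j (Finset.mem_insert_of_mem hj))
        (fun j hj => hφ j (Finset.mem_insert_of_mem hj))

lemma biproduct_desc_eq' {J : Type*} [Fintype J] {f : J → C} [HasBiproduct f] {T : C}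
    {g : ∀ j, f j ⟶ T} : biproduct.desc g = ∑ j, biproduct.π f j ≫ g j := by
  classical
  ext j
  simp [Preadditive.comp_sum, biproduct.ι_π_assoc, dite_comp]

variable [IsGrothendieckAbelian.{w} C]

/-- the canonical map from the biproduct of a finite independent family of subobjects is mono. -/
lemma mono_biproduct_desc_of_iSupIndep {X : C} {J : Type*} (E : J → Subobject X)
    (h : iSupIndep E) (T : Finset J) :
    Mono (biproduct.desc (fun j : T => (E j.1).arrow)) := by
  classical
  apply Preadditive.mono_of_cancel_zero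
  intro Z z hz
  apply biproduct.hom_ext
  intro j₀
  rw [zero_comp]
  let φ : T → (Z ⟶ X) := fun j => (z ≫ biproduct.π (fun j : T => ((E j.1 : Subobject X) : C)) j) ≫
    (E j.1).arrow
  have hsum : ∑ j : T, φ j = 0 := by
    rw [← hz, biproduct_desc_eq', Preadditive.comp_sum]
    apply Finset.sum_congr rfl
    intro j _
    dsimp only [φ]
    rw [Category.assoc]
  have hsplit : φ j₀ + ∑ j ∈ Finset.univ.erase j₀, φ j = 0 := by
    rw [Finset.add_sum_erase _ _ (Finset.mem_univ j₀)]
    exact hsum
  have h1 : φ j₀ = (-𝟙 Z) ≫ ∑ j ∈ Finset.univ.erase j₀, φ j := by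
    rw [Preadditive.neg_comp, Category.id_comp]
    exact eq_neg_of_add_eq_zero_left hsplit
  let W : Subobject X := ⨆ (j) (_ : j ≠ j₀.1), E j
  have h2 : W.Factors (∑ j ∈ Finset.univ.erase j₀, φ j) := by
    apply factors_sum (Finset.univ.erase j₀) (fun j : T => E j.1) W
    · intro j hj
      have hne : j.1 ≠ j₀.1 := fun h => (Finset.ne_of_mem_erase hj) (Subtype.ext h)
      exact le_iSup₂ (f := fun j (_ : j ≠ j₀.1) => E j) j.1 hne
    · intro j _
      exact Subobject.factors_comp_arrow _
  have h3 : W.Factors (φ j₀) := by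
    rw [h1]
    exact Subobject.factors_of_factors_right _ h2
  have h4 : (E j₀.1).Factors (φ j₀) := Subobject.factors_comp_arrow _
  have h5 : E j₀.1 ⊓ W = ⊥ := disjoint_iff.1 (h j₀.1)
  have h6 := eq_zero_of_inf_eq_bot h5 _ h4 h3
  rw [← cancel_mono (E j₀.1).arrow, zero_comp]
  exact h6

/-- **Matlis–Gabriel decomposition** in abstract form. -/
theorem exists_decomposition
    (hgen : ∀ {A B : C} (g : A ⟶ B),
      (∀ (G : C), IsNoetherianObject G → ∀ f : G ⟶ A, f ≫ g = 0) → g = 0)
    (hinj : ∀ (J : Type w) (F : J → C), (∀ j, Injective (F j)) → Injective (∐ F))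
    (I : C) [Injective I] :
    ∃ (J : Type w) (F : J → C), (∀ j, Injective (F j)) ∧ (∀ j, ¬ IsZero (F j)) ∧
      (∀ j (A B : C), Nonempty (F j ≅ A ⊞ B) → IsZero A ∨ IsZero B) ∧ Nonempty (I ≅ ∐ F) := by
  classical
  obtain ⟨s, ⟨hsind, hsgood⟩, hsmax⟩ := exists_maximal_good_indep.{w} I
  let J : Type w := Shrink.{w} ↥s
  let E : J → Subobject I := fun j => ((equivShrink ↥s).symm j).1
  have hEs : ∀ j, E j ∈ s := fun j => ((equivShrink ↥s).symm j).2
  have hEgood : ∀ j, Good.{w} (E j) := fun j => hsgood _ (hEs j)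
  have hEsurj : ∀ E' ∈ s, ∃ j, E j = E' := by
    intro E' hE'
    refine ⟨equivShrink ↥s ⟨E', hE'⟩, ?_⟩
    dsimp only [E]
    rw [Equiv.symm_apply_apply]
  have hindep : iSupIndep E := by
    have h1 : iSupIndep ((↑) : s → Subobject I) := (sSupIndep_iff s).1 hsind
    exact h1.comp (f := fun j => (equivShrink ↥s).symm j) (equivShrink ↥s).symm.injective
  let F : J → C := fun j => ((E j : Subobject I) : C)
  let σ : ∐ F ⟶ I := Sigma.desc (fun j => (E j).arrow)
  have hσι : ∀ j, Sigma.ι F j ≫ σ = (E j).arrow := fun j => by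
    dsimp only [σ]
    rw [Sigma.ι_desc]
  -- `σ` is mono
  haveI hσmono : Mono σ := by
    apply Preadditive.mono_of_kernel_zero
    apply hgen
    intro G hG f
    haveI := hG
    let c : Cofan F := Cofan.mk (∐ F) (Sigma.ι F)
    have hc : IsColimit c := coproductIsCoproduct F
    obtain ⟨T, g', hg'⟩ := exists_factor_finset F hc (f ≫ kernel.ι σ)
    have h1 : finDesc F c T ≫ σ = biproduct.desc (fun j : T => (E j.1).arrow) := by
      apply biproduct.hom_ext'
      intro j
      rw [ι_finDesc_assoc, biproduct.ι_desc]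
      exact hσι j.1
    haveI := mono_biproduct_desc_of_iSupIndep E hindep T
    have h2 : g' = 0 := by
      rw [← cancel_mono (biproduct.desc (fun j : T => (E j.1).arrow)), zero_comp, ← h1,
        ← Category.assoc, hg', Category.assoc, kernel.condition, comp_zero]
    rw [← hg', h2, zero_comp]
  haveI : Injective (∐ F) := hinj J F (fun j => (hEgood j).2.1)
  let ρ : I ⟶ ∐ F := Injective.factorThru (𝟙 _) σ
  have hρ : σ ≫ ρ = 𝟙 _ := Injective.comp_factorThru (𝟙 _) σ
  have hle : sSup s ≤ Subobject.mk σ := by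
    apply sSup_le
    intro E' hE'
    obtain ⟨j, rfl⟩ := hEsurj E' hE'
    exact Subobject.le_mk_of_comm (Sigma.ι F j) (hσι j)
  -- the kernel of `ρ` vanishes
  have hker : kernel.ι ρ = 0 := by
    by_contra hne
    have hex : ∃ (G : C) (_ : IsNoetherianObject G) (f : G ⟶ kernel ρ), f ≫ kernel.ι ρ ≠ 0 := by
      by_contra hcon
      apply hne
      apply hgen
      intro G hG f
      by_contra hf
      exact hcon ⟨G, hG, f, hf⟩
    obtain ⟨G, hG, f, hf⟩ := hex
    haveI := hG
    let N : Subobject I := imageSubobject (f ≫ kernel.ι ρ)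
    have hN0 : N ≠ ⊥ := by
      intro h
      apply hf
      rw [← imageSubobject_arrow_comp (f ≫ kernel.ι ρ), arrow_eq_zero_of_eq_bot N h, comp_zero]
    haveI : IsNoetherianObject (N : C) :=
      Groth.Agent.Lib.Helper8.GrTrans1.isNoetherianObject_of_epi (factorThruImageSubobject (f ≫ kernel.ι ρ))
    have hNρ : N.arrow ≫ ρ = 0 := by
      rw [← cancel_epi (factorThruImageSubobject (f ≫ kernel.ι ρ)), ← Category.assoc,
        imageSubobject_arrow_comp, Category.assoc, kernel.condition, comp_zero, comp_zero]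
    have hNs : N ⊓ sSup s = ⊥ := by
      apply inf_eq_bot_of_factors
      intro Z z hz1 hz2
      have h1 : z ≫ ρ = 0 := by
        rw [← Subobject.factorThru_arrow N z hz1, Category.assoc, hNρ, comp_zero]
      have h2 : (Subobject.mk σ).Factors z := Subobject.factors_of_le z hle hz2
      rw [mk_factors_iff'] at h2
      obtain ⟨z', hz'⟩ := h2
      have h3 : z' = 0 := by
        have : z' ≫ σ ≫ ρ = 0 := by rw [← Category.assoc, hz', h1]
        rwa [hρ, Category.comp_id] at this
      rw [← hz', h3, zero_comp]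
    obtain ⟨E₀, hE₀, hE₀W⟩ := exists_good_of_noetherian.{w} N hN0
    have hdis : Disjoint E₀ (sSup s) := disjoint_iff.2 (hE₀W _ hNs)
    have hins : sSupIndep (insert E₀ s) :=
      Groth.Agent.Lib.Helper2.Kaplansky.sSupIndep_insert hsind hdis
    have hgood' : ∀ E' ∈ insert E₀ s, Good.{w} E' := by
      rintro E' (rfl | hE')
      · exact hE₀
      · exact hsgood E' hE'
    have heq := hsmax (insert E₀ s) ⟨hins, hgood'⟩ (Set.subset_insert E₀ s)
    have hmem : E₀ ∈ s := by
      rw [← heq]
      exact Set.mem_insert E₀ s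
    apply hE₀.1
    apply le_bot_iff.1
    rw [← disjoint_iff.1 hdis]
    exact le_inf le_rfl (le_sSup hmem)
  haveI : Mono ρ := Preadditive.mono_of_kernel_zero hker
  haveI : IsSplitEpi ρ := IsSplitEpi.mk' ⟨σ, hρ⟩
  haveI : IsIso ρ := isIso_of_mono_of_isSplitEpi ρ
  haveI : IsIso (σ ≫ ρ) := by rw [hρ]; infer_instance
  haveI : IsIso σ := IsIso.of_isIso_comp_right σ ρ
  refine ⟨J, F, fun j => (hEgood j).2.1, fun j hz => ?_, fun j => (hEgood j).2.2,
    ⟨(asIso σ).symm⟩⟩
  exact (hEgood j).1 (eq_bot_of_arrow_eq_zero _ (hz.eq_of_src _ _))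

end Groth.Agent.Lib.Helper23.GrothInj
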